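import Cfsg.Agent.H291.DG.InvGen
import Cfsg.Agent.H994.TwoGen.Words
import Cfsg.Agent.Schreier.CoThreeCent
/-
`Co₃` is generated by the involution `gd` and the element `gx` of order 23.
-/
set_option autoImplicit false

namespace Cfsg.Agent.H291.DG.Co3

open Subgroup Cfsg.Agent.Schreier.CoThreeCent Cfsg.Agent.LeechPack.X552 Cfsg.Agent.H994.TwoGen.Words
  Cfsg.Agent.SporadicStructure.PermChain Cfsg.Agent.Schreier.CoThreeGens

/-- the letters -/
noncomputable def s : ℕ → G3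
  | 0 => gx
  | 1 => gy
  | 2 => gd
  | 3 => gx⁻¹
  | _ => gy⁻¹

theorem s_val : ∀ k : ℕ, k < 5 → ∀ i : Fin 552, ((ψ (s k) i : Fin 552) : ℕ) = look 10 (L0.getD k 0) i
  | 0, _, i => by rw [show s 0 = gx from rfl, ψ_gx]; rfl
  | 1, _, i => by rw [show s 1 = gy from rfl, ψ_gy]; rfl
  | 2, _, i => by rw [show s 2 = gd from rfl, ψ_gd]; rfl
  | 3, _, i => by rw [show s 3 = gx⁻¹ from rfl, map_inv, ψ_gx]; rfl
  | 4, _, i => by rw [show s 4 = gy⁻¹ from rfl, map_inv, ψ_gy]; rfl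
  | (n + 5), h, _ => absurd h (by omega)

theorem ev {w : List ℕ} (hw : w.all (fun l => Nat.blt l 5) = true) (i : Fin 552) :
    ((ψ (val s w) i : Fin 552) : ℕ) = evalWord 10 L0 w i := by
  rw [val, map_list_prod, List.map_map]
  refine evalWord_spec L0 (fun k => ψ (s k)) w (fun k hk x => s_val k ?_ x) i
  simpa using List.all_eq_true.1 hw k hk

theorem one_of {w : List ℕ} (hw : w.all (fun l => Nat.blt l 5) = true)
    (h : allBelow (fun i => Nat.beq (evalWord 10 L0 w i) i) 552 = true) : val s w = 1 := by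
  apply ψ_injective
  rw [map_one]
  refine Equiv.ext fun i => Fin.ext ?_
  rw [ev hw]
  exact Nat.eq_of_beq_eq_true (allBelow_spec _ _ h i i.2)

/-- the word for `gy⁻¹` in `gd` (0), `gx` (1), `gx⁻¹` (3) -/
def wy : List ℕ := [1, 0, 1, 0, 3, 3, 0, 3, 3, 0, 1, 1, 0, 1, 0, 3, 3, 3, 3, 0, 3, 0, 1, 1, 0, 3, 0, 1, 1, 1, 1, 0, 3, 0, 1, 1, 0, 1]

theorem gy_mem : gy ∈ closure ({gd, gx} : Set G3) := by
  have h := mem_of_word (m := s) (X := [2]) (Y := [0]) (Xi := [2]) (Yi := [3])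
    (one_of (by decide) (by decide +kernel)) (one_of (by decide) (by decide +kernel)) (w := wy) (k := 1)
    (one_of (by decide) (by decide +kernel))
  simpa [val, s] using h

theorem gen : closure ({gd, gx} : Set G3) = ⊤ := by
  rw [eq_top_iff, ← closure_eq_top, closure_le]
  rintro z (rfl | rfl | rfl)
  · exact subset_closure (Set.mem_insert_of_mem _ rfl)
  · exact gy_mem
  · exact subset_closure (Set.mem_insert _ _)

theorem invGen_G3 : InvGen G3 := by
  refine ⟨gd, gx, by rw [pow_two, gd_mul_gd], fun h => gd_ne_one ?_, gen⟩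
  have h1 := mem_zpowers_gx (g := gd) h
  have h2 : orderOf gd ∣ 23 := by
    rw [← orderOf_gx]
    exact orderOf_dvd_of_mem_zpowers h1
  have h3 : orderOf gd ∣ 2 := orderOf_dvd_of_pow_eq_one (by rw [pow_two, gd_mul_gd])
  have h4 : orderOf gd ∣ 1 := by
    have := Nat.dvd_gcd h2 h3
    simpa using this
  exact orderOf_eq_one_iff.1 (Nat.dvd_one.1 h4)

theorem invGen {G : Type*} [Group G] (h : Cfsg.Spor.IsoCo3 G) : InvGen G := by
  obtain ⟨e⟩ := h
  obtain ⟨e'⟩ := isoCo3_G3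
  exact InvGen.congr (e.trans e'.symm) invGen_G3

end Cfsg.Agent.H291.DG.Co3
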