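import Cfsg.Agent.H291.DG.InvGen
import Cfsg.Agent.H891.DG.Tools
/-
`Coh T` for a simple group generated by an involution and another element.
-/
set_option autoImplicit false

namespace Cfsg.Agent.H291.DG

open Cfsg.Agent.H891.DG

universe u

theorem InvGen.coh {T : Type u} [Group T] [Finite T] [IsSimpleGroup T] (h : InvGen T) : Coh T := by
  obtain ⟨c, b, hc, hc1, hcb⟩ := h.exists
  exact Tools.coh_of_involution h.not_comm hc hc1 hcb

end Cfsg.Agent.H291.DG
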